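import Groth.Prelude.Def_Tors
import Mathlib.CategoryTheory.Sites.Subsheaf
import Mathlib.CategoryTheory.Sites.LocallySurjective
import Mathlib.CategoryTheory.Sites.EpiMono
import Mathlib.Algebra.Homology.DerivedCategory.Ext.ExactSequences
import Mathlib.CategoryTheory.Preadditive.Injective.Basic

/-! Torsors under abelian sheaves: sections, triviality, and the relation with `H^1`. -/

set_option autoImplicit false
universe u

open CategoryTheory CategoryTheory.Limits Opposite

namespace Groth.Agent.Tors50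

variable {C : Type u} [SmallCategory C] {J : GrothendieckTopology C}

/-- A global section of a presheaf. -/
def IsGlobal {F : Cᵒᵖ ⥤ Type u} (s : ∀ U : Cᵒᵖ, F.obj U) : Prop :=
  ∀ ⦃U V : Cᵒᵖ⦄ (f : U ⟶ V), F.map f (s U) = s V

def IsGlobalAb {F : Cᵒᵖ ⥤ AddCommGrpCat.{u}} (s : ∀ U : Cᵒᵖ, F.obj U) : Prop :=
  ∀ ⦃U V : Cᵒᵖ⦄ (f : U ⟶ V), F.map f (s U) = s V

theorem isSheafType (P : Sheaf J (Type u)) : Presieve.IsSheaf J P.obj :=
  (isSheaf_iff_isSheaf_of_type J P.obj).1 P.property

/-- The underlying sheaf of sets of an abelian sheaf. -/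
noncomputable abbrev U' (G : Sheaf J AddCommGrpCat.{u}) : Sheaf J (Type u) :=
  (sheafCompose J (forget AddCommGrpCat.{u})).obj G

theorem isSheafAb (G : Sheaf J AddCommGrpCat.{u}) :
    Presieve.IsSheaf J (G.obj ⋙ forget AddCommGrpCat.{u}) :=
  isSheafType (U' G)

variable {G : Sheaf J AddCommGrpCat.{u}}

theorem hasSection_iff (T : Tors.Torsor G) :
    T.HasSection ↔ ∃ s : ∀ U : Cᵒᵖ, T.P.obj.obj U, IsGlobal s := by
  constructor
  · rintro ⟨σ⟩
    let τ : U' G ⟶ T.P := terminal.from (U' G) ≫ σ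
    refine ⟨fun U => τ.hom.app U (0 : G.obj.obj U), fun U V f => ?_⟩
    have h := (τ.hom.naturality_apply f (0 : G.obj.obj U)).symm
    refine h.trans (congrArg (τ.hom.app V) ?_)
    exact map_zero (G.obj.map f).hom
  · rintro ⟨s, hs⟩
    exact ⟨⟨{ app := fun U => ↾fun _ => s U
              naturality := fun U V f => by ext x; exact (hs f).symm }⟩⟩

theorem isTrivial_iff (T : Tors.Torsor G) : T.IsTrivial ↔ T.HasSection := by
  rw [hasSection_iff]
  constructor
  · rintro ⟨e, -⟩
    refine ⟨fun U => e.hom.hom.app U (0 : G.obj.obj U), fun U V f => ?_⟩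
    have h := (e.hom.hom.naturality_apply f (0 : G.obj.obj U)).symm
    refine h.trans (congrArg (e.hom.hom.app V) ?_)
    exact map_zero (G.obj.map f).hom
  · rintro ⟨s, hs⟩
    let φ : (U' G).obj ⟶ T.P.obj :=
      { app := fun U => ↾fun g : G.obj.obj U => T.vadd g (s U)
        naturality := fun U V f => by
          ext g
          exact ((T.map_vadd f g (s U)).trans (congrArg (T.vadd _) (hs f))).symm }
    have hbij : ∀ U, Function.Bijective (φ.app U) := fun U => by
      refine ⟨fun g h e => (T.free_transitive (s U) (T.vadd g (s U))).unique rfl e.symm, fun p => ?_⟩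
      obtain ⟨g, hg, -⟩ := T.free_transitive (s U) p
      exact ⟨g, hg⟩
    have : ∀ U, IsIso (φ.app U) := fun U => (isIso_iff_bijective _).2 (hbij U)
    have : IsIso φ := NatIso.isIso_of_isIso_app φ
    refine ⟨(fullyFaithfulSheafToPresheaf J (Type u)).preimageIso (asIso φ), fun U g h => ?_⟩
    exact T.add_vadd g h (s U)

/-- Global sections as morphisms out of the constant sheaf. -/
noncomputable def ofGlobal {F : Sheaf J AddCommGrpCat.{u}} (s : ∀ U : Cᵒᵖ, F.obj.obj U)
    (hs : IsGlobalAb s) :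
    (constantSheaf J AddCommGrpCat.{u}).obj (AddCommGrpCat.of (ULift ℤ)) ⟶ F :=
  ((sheafificationAdjunction J AddCommGrpCat.{u}).homEquiv _ F).symm
    { app := fun U => AddCommGrpCat.ofHom
        ((zmultiplesHom (F.obj.obj U) (s U)).comp AddEquiv.ulift.toAddMonoidHom)
      naturality := fun U V f => by
        ext x
        show x.down • s V = F.obj.map f (x.down • s U)
        rw [map_zsmul, hs f] }

/-- The global section attached to a morphism out of the constant sheaf. -/
noncomputable def toGlobal {F : Sheaf J AddCommGrpCat.{u}}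
    (φ : (constantSheaf J AddCommGrpCat.{u}).obj (AddCommGrpCat.of (ULift ℤ)) ⟶ F)
    (U : Cᵒᵖ) : F.obj.obj U :=
  (((sheafificationAdjunction J AddCommGrpCat.{u}).homEquiv _ F) φ).app U (ULift.up 1)

theorem isGlobal_toGlobal {F : Sheaf J AddCommGrpCat.{u}}
    (φ : (constantSheaf J AddCommGrpCat.{u}).obj (AddCommGrpCat.of (ULift ℤ)) ⟶ F) :
    IsGlobalAb (toGlobal φ) := fun U V f =>
  ((((sheafificationAdjunction J AddCommGrpCat.{u}).homEquiv _ F) φ).naturality_apply f (ULift.up 1)).symm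

theorem toGlobal_comp {F F' : Sheaf J AddCommGrpCat.{u}} (g : F ⟶ F')
    (φ : (constantSheaf J AddCommGrpCat.{u}).obj (AddCommGrpCat.of (ULift ℤ)) ⟶ F) (U : Cᵒᵖ) :
    toGlobal (φ ≫ g) U = g.hom.app U (toGlobal φ U) := by
  exact congrArg (fun h => h.app U (ULift.up 1))
    ((sheafificationAdjunction J AddCommGrpCat.{u}).homEquiv_naturality_right φ g)

theorem toGlobal_ofGlobal {F : Sheaf J AddCommGrpCat.{u}} (s : ∀ U : Cᵒᵖ, F.obj.obj U)
    (hs : IsGlobalAb s) (U : Cᵒᵖ) : toGlobal (ofGlobal s hs) U = s U := by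
  unfold toGlobal ofGlobal
  rw [Equiv.apply_symm_apply]
  exact one_smul ℤ (s U)

theorem toGlobal_injective {F : Sheaf J AddCommGrpCat.{u}}
    {φ ψ : (constantSheaf J AddCommGrpCat.{u}).obj (AddCommGrpCat.of (ULift ℤ)) ⟶ F}
    (h : ∀ U, toGlobal φ U = toGlobal ψ U) : φ = ψ := by
  apply ((sheafificationAdjunction J AddCommGrpCat.{u}).homEquiv _ F).injective
  ext U x
  have hx : x = x.down • (ULift.up 1 : ULift ℤ) := ULift.ext _ _ (by simp)
  rw [hx]
  refine (map_zsmul _ _ _).trans ((congrArg (x.down • ·) (h U)).trans (map_zsmul _ _ _).symm)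

section SES

variable {I Q : Sheaf J AddCommGrpCat.{u}} (ι : G ⟶ I) (π : I ⟶ Q) (w : ι ≫ π = 0)
  (hS : (ShortComplex.mk ι π w).ShortExact)

include hS

theorem app_injective (U : Cᵒᵖ) : Function.Injective (ι.hom.app U) := by
  have := hS.mono_f
  have : Mono ι := this
  have h : Mono ((sheafToPresheaf J AddCommGrpCat.{u}).map ι) := inferInstance
  exact (AddCommGrpCat.mono_iff_injective _).1 ((NatTrans.mono_iff_mono_app _).1 h U)

theorem exists_preimage (U : Cᵒᵖ) (x : I.obj.obj U) (hx : π.hom.app U x = 0) :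
    ∃ g : G.obj.obj U, ι.hom.app U g = x := by
  have := hS.mono_f
  have h : ((ShortComplex.mk ι π w).map
      (sheafToPresheaf J AddCommGrpCat.{u} ⋙ (evaluation Cᵒᵖ AddCommGrpCat.{u}).obj U)).Exact :=
    hS.exact.map_of_mono_of_preservesKernel _ this inferInstance
  exact (ShortComplex.ab_exact_iff _).1 h x hx

theorem app_comp_zero (U : Cᵒᵖ) (g : G.obj.obj U) : π.hom.app U (ι.hom.app U g) = 0 := by
  have := congrArg (fun φ => φ.hom.app U g) w
  simpa using this

theorem exists_cover_lift {U : C} (q : Q.obj.obj (op U)) :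
    ∃ S ∈ J U, ∀ ⦃V : C⦄ (f : V ⟶ U), S f →
      ∃ x : I.obj.obj (op V), π.hom.app (op V) x = Q.obj.map f.op q := by
  have := hS.epi_g
  have : Epi π := this
  have : Sheaf.IsLocallySurjective π :=
    (Sheaf.isLocallySurjective_iff_epi' AddCommGrpCat.{u} π).2 this
  exact ⟨_, Presheaf.imageSieve_mem J π.hom q, fun V f hf => hf⟩

/-- If every torsor has a section, global sections of `Q` lift. -/
theorem lift_of_torsors (h : ∀ T : Tors.Torsor G, T.HasSection) (q : ∀ U : Cᵒᵖ, Q.obj.obj U)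
    (hq : IsGlobalAb q) :
    ∃ x : ∀ U : Cᵒᵖ, I.obj.obj U, IsGlobalAb x ∧ ∀ U, π.hom.app U (x U) = q U := by
  let F : Subfunctor (I.obj ⋙ forget AddCommGrpCat.{u}) :=
    { obj := fun U => {x : I.obj.obj U | π.hom.app U x = q U}
      map := fun {U V} f x hx => by
        show π.hom.app V (I.obj.map f x) = q V
        rw [π.hom.naturality_apply, hx]
        exact hq f }
  have hF : Presieve.IsSheaf J F.toFunctor := by
    rw [F.isSheaf_iff (isSheafAb I)]
    intro U s hs
    refine ((isSheafAb Q).isSeparated _ hs).ext fun V f hf => ?_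
    show Q.obj.map f.op (π.hom.app U s) = Q.obj.map f.op (q U)
    rw [← π.hom.naturality_apply, hq f.op]
    exact hf
  let v : ∀ U : Cᵒᵖ, F.toFunctor.obj U → I.obj.obj U := fun U x => x.1
  have hv : ∀ (U : Cᵒᵖ) (x : F.toFunctor.obj U), π.hom.app U (v U x) = q U := fun U x => x.2
  have hadd : ∀ (U : Cᵒᵖ) (g : G.obj.obj U) (x : F.toFunctor.obj U),
      ι.hom.app U g + v U x ∈ {x : I.obj.obj U | π.hom.app U x = q U} := by
    intro U g x
    show π.hom.app U (ι.hom.app U g + v U x) = q U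
    rw [map_add, app_comp_zero ι π w hS, zero_add, hv]
  let T : Tors.Torsor G :=
    { P := ⟨F.toFunctor, (isSheaf_iff_isSheaf_of_type J _).2 hF⟩
      vadd := fun {U} g x => ⟨ι.hom.app U g + v U x, hadd U g x⟩
      zero_vadd := fun {U} p => by
        refine Subtype.ext ?_
        show ι.hom.app U 0 + v U p = v U p
        rw [map_zero, zero_add]
      add_vadd := fun {U} g g' p => by
        refine Subtype.ext ?_
        show ι.hom.app U (g + g') + v U p = ι.hom.app U g + (ι.hom.app U g' + v U p)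
        rw [map_add, add_assoc]
      map_vadd := fun {U V} f g p => by
        refine Subtype.ext ?_
        show I.obj.map f (ι.hom.app U g + v U p) = ι.hom.app V (G.obj.map f g) + I.obj.map f (v U p)
        rw [map_add, ι.hom.naturality_apply]
      free_transitive := fun {U} p p' => by
        obtain ⟨g, hg⟩ := exists_preimage ι π w hS U (v U p' - v U p)
          ((map_sub (π.hom.app U).hom _ _).trans (sub_eq_zero.2 ((hv U p').trans (hv U p).symm)))
        refine ⟨g, Subtype.ext ?_, fun g' hg' => app_injective ι π w hS U ?_⟩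
        · show ι.hom.app U g + v U p = v U p'
          rw [hg, sub_add_cancel]
        · have h' : ι.hom.app U g' + v U p = v U p' := congrArg Subtype.val hg'
          rw [hg, ← h', add_sub_cancel_right]
      locally_nonempty := fun U => by
        obtain ⟨S, hSJ, hlift⟩ := exists_cover_lift ι π w hS (q (op U))
        refine ⟨S, hSJ, fun V f hf => ?_⟩
        obtain ⟨x, hx⟩ := hlift f hf
        exact ⟨⟨x, hx.trans (hq f.op)⟩⟩ }
  obtain ⟨s, hs⟩ := (hasSection_iff T).1 (h T)
  exact ⟨fun U => (s U).1, fun U V f => congrArg Subtype.val (hs f), fun U => (s U).2⟩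

end SES

section Embed

variable (T : Tors.Torsor G)

noncomputable def sub' {U : Cᵒᵖ} (p p0 : T.P.obj.obj U) : G.obj.obj U :=
  (T.free_transitive p0 p).exists.choose

theorem vadd_sub' {U : Cᵒᵖ} (p p0 : T.P.obj.obj U) : T.vadd (sub' T p p0) p0 = p :=
  (T.free_transitive p0 p).exists.choose_spec

theorem sub'_unique {U : Cᵒᵖ} {p p0 : T.P.obj.obj U} {g : G.obj.obj U} (h : T.vadd g p0 = p) :
    sub' T p p0 = g :=
  (T.free_transitive p0 p).unique (vadd_sub' T p p0) h

theorem sub'_vadd {U : Cᵒᵖ} (g : G.obj.obj U) (p p0 : T.P.obj.obj U) :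
    sub' T (T.vadd g p) p0 = g + sub' T p p0 :=
  sub'_unique T (by rw [T.add_vadd, vadd_sub'])

theorem sub'_trans {U : Cᵒᵖ} (p p0 p1 : T.P.obj.obj U) :
    sub' T p p1 = sub' T p p0 + sub' T p0 p1 :=
  sub'_unique T (by rw [T.add_vadd, vadd_sub', vadd_sub'])

theorem map_sub' {U V : Cᵒᵖ} (f : U ⟶ V) (p p0 : T.P.obj.obj U) :
    G.obj.map f (sub' T p p0) = sub' T (T.P.obj.map f p) (T.P.obj.map f p0) :=
  (sub'_unique T (by rw [← T.map_vadd, vadd_sub'])).symm

/-- The free abelian presheaf on the torsor. -/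
noncomputable def free : Cᵒᵖ ⥤ AddCommGrpCat.{u} := T.P.obj ⋙ AddCommGrpCat.free

/-- The augmentation. -/
noncomputable def aug (U : Cᵒᵖ) : FreeAbelianGroup (T.P.obj.obj U) →+ ℤ :=
  FreeAbelianGroup.lift fun _ => 1

theorem aug_map {U V : Cᵒᵖ} (f : U ⟶ V) (z : FreeAbelianGroup (T.P.obj.obj U)) :
    aug T V (FreeAbelianGroup.map (fun p => T.P.obj.map f p) z) = aug T U z := by
  refine DFunLike.congr_fun (?_ : (aug T V).comp (FreeAbelianGroup.map _) = aug T U) z
  ext p
  simp [aug]

/-- The kernel of the augmentation, as a presheaf. -/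
noncomputable def ker : Cᵒᵖ ⥤ AddCommGrpCat.{u} where
  obj U := AddCommGrpCat.of (aug T U).ker
  map {U V} f := AddCommGrpCat.ofHom
    (((FreeAbelianGroup.map fun p => T.P.obj.map f p).comp (aug T U).ker.subtype).codRestrict _
      fun z => AddMonoidHom.mem_ker.2 ((aug_map T f z.1).trans z.2))
  map_id U := by
    ext z
    show FreeAbelianGroup.map _ z.1 = z.1
    rw [show (fun p => T.P.obj.map (𝟙 U) p) = id from by ext p; simp, FreeAbelianGroup.map_id]
    rfl
  map_comp {U V W} f g := by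
    ext z
    show FreeAbelianGroup.map _ z.1 = FreeAbelianGroup.map _ (FreeAbelianGroup.map _ z.1)
    rw [← FreeAbelianGroup.map_comp_apply]
    congr 2
    ext p
    simp

noncomputable def kerIncl : ker T ⟶ free T where
  app U := AddCommGrpCat.ofHom (aug T U).ker.subtype
  naturality _ _ _ := rfl

instance : Mono (kerIncl T) :=
  (NatTrans.mono_iff_mono_app _).2 fun U =>
    (AddCommGrpCat.mono_iff_injective _).2 Subtype.val_injective

/-- Linear extension of `p ↦ p - p0`. -/
noncomputable def diff {U : Cᵒᵖ} (p0 : T.P.obj.obj U) :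
    FreeAbelianGroup (T.P.obj.obj U) →+ G.obj.obj U :=
  FreeAbelianGroup.lift fun p => sub' T p p0

theorem diff_change {U : Cᵒᵖ} (p0 p1 : T.P.obj.obj U) (z : FreeAbelianGroup (T.P.obj.obj U)) :
    diff T p1 z = diff T p0 z + aug T U z • sub' T p0 p1 := by
  refine DFunLike.congr_fun (?_ : diff T p1 =
    diff T p0 + ((zmultiplesHom _ (sub' T p0 p1)).comp (aug T U))) z
  ext p
  simp [diff, aug, sub'_trans T p p0 p1]

theorem map_diff {U V : Cᵒᵖ} (f : U ⟶ V) (p0 : T.P.obj.obj U)
    (z : FreeAbelianGroup (T.P.obj.obj U)) :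
    G.obj.map f (diff T p0 z) =
      diff T (T.P.obj.map f p0) (FreeAbelianGroup.map (fun p => T.P.obj.map f p) z) := by
  refine DFunLike.congr_fun (?_ : (G.obj.map f).hom.comp (diff T p0) =
    (diff T (T.P.obj.map f p0)).comp (FreeAbelianGroup.map _)) z
  ext p
  simp [diff, map_sub']

open Classical in
/-- The canonical map from the kernel of the augmentation to `G`. -/
noncomputable def θhom (U : Cᵒᵖ) : (aug T U).ker →+ G.obj.obj U :=
  if h : Nonempty (T.P.obj.obj U) then (diff T h.some).comp (aug T U).ker.subtype else 0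

theorem θhom_eq {U : Cᵒᵖ} (p0 : T.P.obj.obj U) (z : (aug T U).ker) : θhom T U z = diff T p0 z.1 := by
  rw [θhom, dif_pos ⟨p0⟩]
  show diff T _ z.1 = _
  rw [diff_change T p0 _ z.1, AddMonoidHom.mem_ker.1 z.2, zero_smul, add_zero]

/-- The canonical map from the kernel of the augmentation to `G`. -/
noncomputable def θ : ker T ⟶ G.obj where
  app U := AddCommGrpCat.ofHom (θhom T U)
  naturality U V f := by
    ext z
    show θhom T V ((ker T).map f z) = G.obj.map f (θhom T U z)
    by_cases h : Nonempty (T.P.obj.obj U)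
    · refine (θhom_eq T (T.P.obj.map f h.some) _).trans ?_
      exact ((congrArg (G.obj.map f) (θhom_eq T h.some z)).trans (map_diff T f h.some z.1)).symm
    · have : IsEmpty (T.P.obj.obj U) := not_nonempty_iff.1 h
      have hz : z = 0 := Subtype.ext (Subsingleton.elim _ _)
      subst hz
      exact ((congrArg (θhom T V) (map_zero ((ker T).map f).hom)).trans (map_zero _)).trans
        ((congrArg (G.obj.map f) (map_zero (θhom T U))).trans (map_zero (G.obj.map f).hom)).symm

/-- An equivariant map to an injective sheaf. -/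
theorem exists_equivariant {I : Sheaf J AddCommGrpCat.{u}} [Injective I] (ι : G ⟶ I) :
    ∃ τ : ∀ U : Cᵒᵖ, T.P.obj.obj U → I.obj.obj U,
      (∀ (U : Cᵒᵖ) (g : G.obj.obj U) (p : T.P.obj.obj U), τ U (T.vadd g p) = ι.hom.app U g + τ U p) ∧
      ∀ ⦃U V : Cᵒᵖ⦄ (f : U ⟶ V) (p : T.P.obj.obj U), I.obj.map f (τ U p) = τ V (T.P.obj.map f p) := by
  have : Injective I.obj :=
    Injective.injective_of_adjoint (sheafificationAdjunction J AddCommGrpCat.{u}) I
  let e := Injective.factorThru (θ T ≫ ι.hom) (kerIncl T)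
  have he : kerIncl T ≫ e = θ T ≫ ι.hom := Injective.comp_factorThru _ _
  refine ⟨fun U p => e.app U (FreeAbelianGroup.of p), fun U g p => ?_, fun U V f p => ?_⟩
  · let z : (aug T U).ker := ⟨FreeAbelianGroup.of (T.vadd g p) - FreeAbelianGroup.of p,
      AddMonoidHom.mem_ker.2 (by simp [aug])⟩
    have h : e.app U z.1 = ι.hom.app U (θhom T U z) :=
      congrArg (fun φ => φ.app U z) he
    rw [θhom_eq T p z] at h
    have h2 : diff T p z.1 = g := by
      simp [z, diff, sub'_vadd, sub'_unique T (T.zero_vadd p)]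
    rw [h2] at h
    show (e.app U).hom (FreeAbelianGroup.of (T.vadd g p)) =
      ι.hom.app U g + (e.app U).hom (FreeAbelianGroup.of p)
    rw [← h]
    exact sub_eq_iff_eq_add.1 (map_sub (e.app U).hom _ _).symm
  · refine (e.naturality_apply f (FreeAbelianGroup.of p)).symm.trans (congrArg (e.app V) ?_)
    exact FreeAbelianGroup.map_of_apply p

theorem hasSection_of_lift {I Q : Sheaf J AddCommGrpCat.{u}} [Injective I] (ι : G ⟶ I) (π : I ⟶ Q)
    (w : ι ≫ π = 0) (hS : (ShortComplex.mk ι π w).ShortExact)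
    (h : ∀ q : ∀ U : Cᵒᵖ, Q.obj.obj U, IsGlobalAb q →
      ∃ x : ∀ U : Cᵒᵖ, I.obj.obj U, IsGlobalAb x ∧ ∀ U, π.hom.app U (x U) = q U) :
    T.HasSection := by
  classical
  obtain ⟨τ, hτ, hτn⟩ := exists_equivariant T ι
  have hconst : ∀ (U : Cᵒᵖ) (p p' : T.P.obj.obj U), π.hom.app U (τ U p) = π.hom.app U (τ U p') := by
    intro U p p'
    obtain ⟨g, hg, -⟩ := T.free_transitive p p'
    rw [← hg, hτ, map_add, app_comp_zero ι π w hS, zero_add]
  choose S hSJ hne using T.locally_nonempty
  let x : ∀ U : C, Presieve.FamilyOfElements (Q.obj ⋙ forget AddCommGrpCat.{u}) (S U).arrows :=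
    fun U V f hf => π.hom.app (op V) (τ (op V) (hne U f hf).some)
  have hx : ∀ U, (x U).Compatible := by
    intro U V₁ V₂ W g₁ g₂ f₁ f₂ h₁ h₂ hc
    show Q.obj.map g₁.op (π.hom.app _ (τ _ (hne U f₁ h₁).some)) =
      Q.obj.map g₂.op (π.hom.app _ (τ _ (hne U f₂ h₂).some))
    rw [← π.hom.naturality_apply, ← π.hom.naturality_apply, hτn, hτn]
    exact hconst _ _ _
  have hQ := fun U : C => isSheafAb Q (S U) (hSJ U)
  let q : ∀ U : Cᵒᵖ, Q.obj.obj U := fun U => (hQ U.unop).amalgamate (x U.unop) (hx U.unop)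
  have hqp : ∀ (U : Cᵒᵖ) (p : T.P.obj.obj U), q U = π.hom.app U (τ U p) := by
    intro U p
    refine (hQ U.unop).isSeparatedFor.ext fun V f hf => ?_
    refine ((hQ U.unop).valid_glue (hx U.unop) f hf).trans ?_
    show π.hom.app _ (τ _ (hne U.unop f hf).some) = Q.obj.map f.op (π.hom.app U (τ U p))
    rw [← π.hom.naturality_apply, hτn]
    exact hconst _ _ _
  have key : ∀ (U : Cᵒᵖ) (W : C) (k : U ⟶ op W) (p : T.P.obj.obj (op W)),
      Q.obj.map k (q U) = π.hom.app (op W) (τ (op W) p) := by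
    intro U W k p
    refine ((isSheafAb Q).isSeparated _ (J.pullback_stable k.unop (hSJ U.unop))).ext fun W' h hh => ?_
    show Q.obj.map h.op (Q.obj.map k (q U)) = Q.obj.map h.op (π.hom.app (op W) (τ (op W) p))
    have e : Q.obj.map (h ≫ k.unop).op (q U) =
        π.hom.app (op W') (τ (op W') (hne U.unop (h ≫ k.unop) hh).some) :=
      (hQ U.unop).valid_glue (hx U.unop) _ hh
    rw [op_comp, Functor.map_comp, ConcreteCategory.comp_apply] at e
    refine e.trans ?_
    rw [← π.hom.naturality_apply, hτn]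
    exact hconst _ _ _
  have hq : IsGlobalAb q := by
    intro U V f
    refine (hQ V.unop).isSeparatedFor.ext fun W g hg => ?_
    show Q.obj.map g.op (Q.obj.map f (q U)) = Q.obj.map g.op (q V)
    let p := (hne V.unop g hg).some
    rw [← ConcreteCategory.comp_apply, ← Functor.map_comp, key _ _ _ p, key _ _ _ p]
  obtain ⟨y, hy, hyq⟩ := h q hq
  have huniq : ∀ (U : Cᵒᵖ), Nonempty (T.P.obj.obj U) → ∃! p : T.P.obj.obj U, τ U p = y U := by
    rintro U ⟨p0⟩
    obtain ⟨g, hg⟩ := exists_preimage ι π w hS U (y U - τ U p0) (by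
      rw [map_sub, hyq, hqp U p0, sub_self])
    refine ⟨T.vadd g p0, ?_, fun p hp => ?_⟩
    · show τ U _ = _
      rw [hτ, hg, sub_add_cancel]
    · obtain ⟨g', rfl, -⟩ := T.free_transitive p0 p
      have hp' : ι.hom.app U g' + τ U p0 = y U := (hτ U g' p0).symm.trans hp
      rw [app_injective ι π w hS U (a₁ := g') (a₂ := g) (by rw [hg, ← hp', add_sub_cancel_right])]
  let pU : ∀ U : C, Presieve.FamilyOfElements T.P.obj (S U).arrows := fun U V f hf =>
    (huniq (op V) (hne U f hf)).exists.choose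
  have hpU : ∀ U V (f : V ⟶ U) (hf : S U f), τ (op V) (pU U f hf) = y (op V) := fun U V f hf =>
    (huniq (op V) (hne U f hf)).exists.choose_spec
  have hpc : ∀ U, (pU U).Compatible := by
    intro U V₁ V₂ W g₁ g₂ f₁ f₂ h₁ h₂ hc
    refine (huniq (op W) ⟨T.P.obj.map g₁.op (pU U f₁ h₁)⟩).unique ?_ ?_
    · rw [← hτn, hpU U V₁ f₁ h₁]; exact hy g₁.op
    · rw [← hτn, hpU U V₂ f₂ h₂]; exact hy g₂.op
  have hP := fun U : C => isSheafType T.P (S U) (hSJ U)
  let s : ∀ U : Cᵒᵖ, T.P.obj.obj U := fun U => (hP U.unop).amalgamate (pU U.unop) (hpc U.unop)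
  have hsy : ∀ U : Cᵒᵖ, τ U (s U) = y U := fun U => by
    refine (isSheafAb I (S U.unop) (hSJ U.unop)).isSeparatedFor.ext fun V f hf => ?_
    show I.obj.map f.op (τ U (s U)) = I.obj.map f.op (y U)
    rw [hτn, show T.P.obj.map f.op (s U) = pU U.unop f hf from (hP U.unop).valid_glue (hpc U.unop) f hf,
      hpU U.unop V f hf, hy f.op]
  refine (hasSection_iff T).2 ⟨s, fun U V f => (huniq V ⟨s V⟩).unique ?_ (hsy V)⟩
  rw [← hτn, hsy]
  exact hy f

end Embed

theorem subsingleton_H1_iff (G : Sheaf J AddCommGrpCat.{u}) :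
    Subsingleton (Sheaf.H.{u} G 1) ↔ ∀ T : Tors.Torsor G, T.HasSection := by
  let S : ShortComplex (Sheaf J AddCommGrpCat.{u}) :=
    ShortComplex.mk (Injective.ι G) (cokernel.π (Injective.ι G)) (cokernel.condition _)
  have hS : S.ShortExact :=
    { exact := ShortComplex.exact_of_g_is_cokernel _ (cokernelIsCokernel (Injective.ι G))
      mono_f := inferInstanceAs (Mono (Injective.ι G))
      epi_g := inferInstanceAs (Epi (cokernel.π _)) }
  let Z := (constantSheaf J AddCommGrpCat.{u}).obj (AddCommGrpCat.of (ULift ℤ))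
  constructor
  · intro hsub T
    refine hasSection_of_lift T _ _ _ hS fun q hq => ?_
    obtain ⟨x, hx⟩ := Abelian.Ext.covariant_sequence_exact₃ Z hS
      (Abelian.Ext.mk₀ (ofGlobal q hq)) (zero_add 1) (Subsingleton.elim (α := Sheaf.H.{u} G 1) _ _)
    obtain ⟨φ, rfl⟩ := Abelian.Ext.homEquiv₀.symm.surjective x
    rw [Abelian.Ext.homEquiv₀_symm_apply, Abelian.Ext.mk₀_comp_mk₀] at hx
    refine ⟨toGlobal φ, isGlobal_toGlobal φ, fun U => ?_⟩
    rw [← toGlobal_comp, (Abelian.Ext.mk₀_bijective _ _).1 hx, toGlobal_ofGlobal]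
  · intro hT
    refine subsingleton_of_forall_eq 0 fun ξ => ?_
    obtain ⟨x, hx⟩ := Abelian.Ext.covariant_sequence_exact₁ Z hS ξ
      (Abelian.Ext.eq_zero_of_injective _) (zero_add 1)
    obtain ⟨φ, rfl⟩ := Abelian.Ext.homEquiv₀.symm.surjective x
    obtain ⟨y, hy, hyq⟩ := lift_of_torsors (Injective.ι G) _ _ hS hT (toGlobal φ) (isGlobal_toGlobal φ)
    have : φ = ofGlobal y hy ≫ cokernel.π (Injective.ι G) :=
      toGlobal_injective fun U => by rw [toGlobal_comp, toGlobal_ofGlobal, hyq]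
    rw [← hx, Abelian.Ext.homEquiv₀_symm_apply, this]
    show (Abelian.Ext.mk₀ (ofGlobal y hy ≫ S.g)).comp hS.extClass _ = 0
    rw [← Abelian.Ext.mk₀_comp_mk₀, Abelian.Ext.comp_assoc_of_second_deg_zero]
    simp

end Groth.Agent.Tors50
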